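import Mathlib.NumberTheory.LegendreSymbol.AddCharacter
import Mathlib.NumberTheory.GaussSum
import Mathlib.Algebra.Polynomial.OfFn
import Mathlib.FieldTheory.Finite.Extension
import Mathlib.RingTheory.Trace.Basic
import Mathlib.RingTheory.Norm.Transitivity
import Mathlib.RingTheory.UniqueFactorizationDomain.Multiplicity

set_option autoImplicit false

/-!
The Hasse–Davenport lifting relation through the L-function of the multiplicative function
`f ↦ χ((-1)^deg f f(0)) ψ(-nextCoeff f)` on monic polynomials.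
-/

open Polynomial Finset UniqueFactorizationMonoid
open scoped Classical
set_option maxHeartbeats 1000000
set_option backward.isDefEq.respectTransparency false

namespace Groth.Agent.HDLib

variable {F R : Type*} [Field F] [Fintype F] [CommRing R]
  (χ : MulChar F R) (ψ : AddChar F R)

/-- the weight of a polynomial -/
def lam (f : F[X]) : R := χ ((-1) ^ f.natDegree * f.coeff 0) * ψ (-f.nextCoeff)

omit [Fintype F] in
theorem lam_one : lam χ ψ (1 : F[X]) = 1 := by
  simp [lam, Polynomial.nextCoeff]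

omit [Fintype F] in
theorem lam_mul {f g : F[X]} (hf : f.Monic) (hg : g.Monic) :
    lam χ ψ (f * g) = lam χ ψ f * lam χ ψ g := by
  simp only [lam]
  rw [hf.natDegree_mul hg, mul_coeff_zero, hf.nextCoeff_mul hg, neg_add, AddChar.map_add_eq_mul,
    pow_add, mul_mul_mul_comm, map_mul]
  ring

omit [Fintype F] in
theorem lam_pow {f : F[X]} (hf : f.Monic) : ∀ k : ℕ, lam χ ψ (f ^ k) = lam χ ψ f ^ k
  | 0 => by simp [lam_one]
  | k + 1 => by rw [pow_succ, lam_mul χ ψ (hf.pow k) hf, lam_pow hf k, pow_succ]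

/-- the monic polynomial with given lower coefficients -/
noncomputable def mk (d : ℕ) (a : Fin d → F) : F[X] := X ^ d + ofFn d a

omit [Fintype F] in
theorem coeff_mk_lt {d i : ℕ} (a : Fin d → F) (h : i < d) : (mk d a).coeff i = a ⟨i, h⟩ := by
  rw [mk, coeff_add, coeff_X_pow, if_neg h.ne, zero_add, ofFn_coeff_eq_val_of_lt a h]

omit [Fintype F] in
theorem mk_inj (d : ℕ) : Function.Injective (mk (F := F) d) := fun a b e => by
  ext i
  rw [← coeff_mk_lt a i.2, e, coeff_mk_lt b i.2]

omit [Fintype F] in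
theorem mk_spec (d : ℕ) (a : Fin d → F) : (mk d a).Monic ∧ (mk d a).natDegree = d := by
  refine ⟨monic_X_pow_add (ofFn_degree_lt a), ?_⟩
  apply natDegree_eq_of_degree_eq_some
  rw [mk, degree_add_eq_left_of_degree_lt] <;> rw [degree_X_pow]
  exact ofFn_degree_lt a

/-- the monic polynomials of degree `d` -/
noncomputable def md (d : ℕ) : Finset F[X] := Finset.univ.image (mk d)

theorem mem_md {d : ℕ} {f : F[X]} : f ∈ md d ↔ f.Monic ∧ f.natDegree = d := by
  simp only [md, Finset.mem_image, Finset.mem_univ, true_and]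
  constructor
  · rintro ⟨a, rfl⟩
    exact mk_spec d a
  · rintro ⟨hf, rfl⟩
    refine ⟨fun i => f.coeff i, ?_⟩
    ext i
    rcases lt_trichotomy i f.natDegree with h | h | h
    · rw [coeff_mk_lt _ h]
    · subst h
      rw [hf.coeff_natDegree]
      have := mk_spec f.natDegree (fun i => f.coeff i)
      have h2 := this.1.coeff_natDegree
      rwa [this.2] at h2
    · rw [coeff_eq_zero_of_natDegree_lt h, coeff_eq_zero_of_natDegree_lt (by rwa [(mk_spec _ _).2])]

/-- the coefficient sums -/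
noncomputable def C' (d : ℕ) : R := ∑ f ∈ md (F := F) d, lam χ ψ f

/-- the Gauss sum -/
def g : R := ∑ x : F, χ x * ψ x

theorem C'_zero : C' χ ψ 0 = 1 := by
  rw [C', show md (F := F) 0 = {1} from ?_, Finset.sum_singleton, lam_one]
  ext f
  rw [mem_md, Finset.mem_singleton]
  exact ⟨fun h => h.1.natDegree_eq_zero.1 h.2, fun h => h ▸ ⟨monic_one, natDegree_one⟩⟩

theorem C'_one : C' χ ψ 1 = g χ ψ := by
  rw [C', g, md, Finset.sum_image fun a _ b _ e => mk_inj _ e]
  refine Fintype.sum_equiv ((Equiv.funUnique (Fin 1) F).trans (Equiv.neg F)) _ _ fun a => ?_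
  have hm := mk_spec 1 a
  have h0 : (mk 1 a).coeff 0 = a 0 := coeff_mk_lt a zero_lt_one
  rw [lam, nextCoeff_of_natDegree_pos (by rw [hm.2]; exact one_pos), hm.2, h0]
  simp

theorem C'_eq_zero [IsDomain R] (hψ : ψ ≠ 1) {d : ℕ} (hd : 2 ≤ d) : C' χ ψ d = 0 := by
  obtain ⟨c, hc⟩ := AddChar.ne_one_iff.1 hψ
  rw [C', md, Finset.sum_image fun a _ b _ e => mk_inj _ e]
  set S := ∑ a : Fin d → F, lam χ ψ (mk d a) with hS
  have e : ∀ a : Fin d → F, lam χ ψ (mk d a) =
      χ ((-1) ^ d * a ⟨0, by omega⟩) * ψ (-a ⟨d - 1, by omega⟩) := fun a => by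
    have hm := mk_spec d a
    rw [lam, nextCoeff_of_natDegree_pos (by rw [hm.2]; omega), hm.2, coeff_mk_lt a (by omega : 0 < d),
      coeff_mk_lt a (by omega : d - 1 < d)]
  have h : S = ψ c * S := by
    rw [hS, Finset.mul_sum]
    refine Fintype.sum_equiv (Equiv.addRight (Pi.single (⟨d - 1, by omega⟩ : Fin d) c)) _ _ fun a => ?_
    have h0 : (⟨0, by omega⟩ : Fin d) ≠ ⟨d - 1, by omega⟩ := by simp [Fin.ext_iff]; omega
    simp only [e, Equiv.coe_addRight, Pi.add_apply, Pi.single_eq_same, Pi.single_eq_of_ne h0, add_zero,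
      neg_add, AddChar.map_add_eq_mul]
    rw [show ψ c * (χ ((-1) ^ d * a ⟨0, by omega⟩) * (ψ (-a ⟨d - 1, by omega⟩) * ψ (-c))) =
      (ψ c * ψ (-c)) * (χ ((-1) ^ d * a ⟨0, by omega⟩) * ψ (-a ⟨d - 1, by omega⟩)) by ring,
      ← AddChar.map_add_eq_mul, add_neg_cancel, AddChar.map_zero_eq_one, one_mul]
  have : (ψ c - 1) * S = 0 := by rw [sub_mul, ← h, one_mul, sub_self]
  exact (mul_eq_zero.1 this).resolve_left (sub_ne_zero.2 hc)

/-- monic irreducibles of degree at most `M` -/
noncomputable def irr (M : ℕ) : Finset F[X] :=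
  ((Finset.range (M + 1)).biUnion md).filter Irreducible

theorem mem_irr {M : ℕ} {P : F[X]} : P ∈ irr M ↔ P.Monic ∧ Irreducible P ∧ P.natDegree ≤ M := by
  simp only [irr, Finset.mem_filter, Finset.mem_biUnion, Finset.mem_range, mem_md]
  exact ⟨fun ⟨⟨j, hj, hm, hd⟩, hi⟩ => ⟨hm, hi, by omega⟩, fun ⟨hm, hi, hd⟩ => ⟨⟨_, by omega, hm, rfl⟩, hi⟩⟩

theorem natDegree_eq_sum {M : ℕ} {f : F[X]} (hf : f ∈ md M) :
    ∑ P ∈ irr M, ∑ k ∈ (Icc 1 M).filter (fun k => P ^ k ∣ f), P.natDegree = M := by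
  classical
  obtain ⟨hm, hd⟩ := mem_md.1 hf
  set s := normalizedFactors f
  have hmon : ∀ P ∈ s, P.Monic := fun P hP => by
    rw [← normalize_normalized_factor P hP]
    exact monic_normalize (irreducible_of_normalized_factor P hP).ne_zero
  have hprod : s.prod = f :=
    eq_of_monic_of_associated (by simpa using monic_multiset_prod_of_monic s id hmon)
      hm (prod_normalizedFactors hm.ne_zero)
  have hsub : s.toFinset ⊆ irr M := fun P hP => by
    rw [Multiset.mem_toFinset] at hP
    exact mem_irr.2 ⟨hmon P hP, irreducible_of_normalized_factor P hP,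
      hd ▸ natDegree_le_of_dvd (dvd_of_mem_normalizedFactors hP) hm.ne_zero⟩
  have hk : ∀ P ∈ irr M, (Icc 1 M).filter (fun k => P ^ k ∣ f) = Icc 1 (s.count P) := by
    intro P hP
    obtain ⟨hPm, hPi, -⟩ := mem_irr.1 hP
    have he := emultiplicity_eq_count_normalizedFactors hPi hm.ne_zero
    rw [hPm.normalize_eq_self] at he
    have hiff : ∀ k, P ^ k ∣ f ↔ k ≤ s.count P := fun k => by
      rw [pow_dvd_iff_le_emultiplicity, he, Nat.cast_le]
    have hle : s.count P ≤ M := by
      have := natDegree_le_of_dvd ((hiff _).2 le_rfl) hm.ne_zero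
      rw [natDegree_pow, hd] at this
      exact le_trans (Nat.le_mul_of_pos_right _ hPi.natDegree_pos) this
    ext k
    simp only [Finset.mem_filter, Finset.mem_Icc, hiff]
    omega
  rw [Finset.sum_congr rfl fun P hP => by rw [hk P hP, Finset.sum_const, Nat.card_Icc, Nat.add_sub_cancel]]
  rw [← Finset.sum_subset hsub (f := fun P => s.count P • P.natDegree) fun P _ hP => by
    simp [Multiset.count_eq_zero.2 (fun h => hP (Multiset.mem_toFinset.2 h))]]
  rw [← Finset.sum_multiset_map_count, ← natDegree_multiset_prod_of_monic _ hmon, hprod, hd]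

/-- the sum over irreducibles of degree dividing `m` -/
noncomputable def S (m : ℕ) : R :=
  ∑ P ∈ (irr (F := F) m).filter (fun P => P.natDegree ∣ m), P.natDegree * lam χ ψ P ^ (m / P.natDegree)

theorem S_eq {m M : ℕ} (hm : 1 ≤ m) (hM : m ≤ M) :
    ∑ P ∈ irr (F := F) M, ∑ k ∈ Icc 1 M, (if k * P.natDegree = m then (P.natDegree : R) * lam χ ψ P ^ k else 0) =
      S χ ψ m := by
  have key : ∀ P ∈ irr (F := F) M,
      ∑ k ∈ Icc 1 M, (if k * P.natDegree = m then (P.natDegree : R) * lam χ ψ P ^ k else 0) =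
        if P.natDegree ∣ m then (P.natDegree : R) * lam χ ψ P ^ (m / P.natDegree) else 0 := by
    intro P hP
    have hpos := (mem_irr.1 hP).2.1.natDegree_pos
    split_ifs with h
    · obtain ⟨c, rfl⟩ := h
      have hc : c ∈ Icc 1 M := by
        refine Finset.mem_Icc.2 ⟨Nat.pos_of_ne_zero fun h0 => by simp [h0] at hm, ?_⟩
        exact le_trans (Nat.le_mul_of_pos_left _ hpos) hM
      rw [Finset.sum_eq_single c, if_pos (mul_comm _ _), Nat.mul_div_cancel_left _ hpos]
      · intro k _ hk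
        rw [if_neg fun e => hk (Nat.eq_of_mul_eq_mul_left hpos (by rw [mul_comm, e]))]
      · exact fun h0 => absurd hc h0
    · refine Finset.sum_eq_zero fun k _ => if_neg fun e => h ?_
      rw [← e]; exact dvd_mul_left _ _
  rw [Finset.sum_congr rfl key, ← Finset.sum_filter, S]
  refine Finset.sum_congr ?_ fun _ _ => rfl
  ext P
  simp only [Finset.mem_filter, mem_irr]
  exact ⟨fun ⟨⟨a, b, _⟩, d⟩ => ⟨⟨a, b, Nat.le_of_dvd (by omega) d⟩, d⟩,
    fun ⟨⟨a, b, c⟩, d⟩ => ⟨⟨a, b, le_trans c hM⟩, d⟩⟩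

theorem sum_dvd {M k : ℕ} {P : F[X]} (hP : P.Monic) :
    ∑ f ∈ (md M).filter (fun f => P ^ k ∣ f), lam χ ψ f =
      if k * P.natDegree ≤ M then lam χ ψ P ^ k * C' χ ψ (M - k * P.natDegree) else 0 := by
  have hPk := hP.pow k
  have hdeg : (P ^ k).natDegree = k * P.natDegree := hP.natDegree_pow k
  split_ifs with h
  · rw [C', Finset.mul_sum]
    refine (Finset.sum_bij (fun g _ => P ^ k * g) ?_ ?_ ?_ ?_).symm
    · intro g hg
      obtain ⟨gm, gd⟩ := mem_md.1 hg
      refine Finset.mem_filter.2 ⟨mem_md.2 ⟨hPk.mul gm, ?_⟩, dvd_mul_right _ _⟩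
      rw [hPk.natDegree_mul gm, hdeg, gd]; omega
    · intro a _ b _ e
      exact mul_left_cancel₀ hPk.ne_zero e
    · intro f hf
      obtain ⟨hf1, g, rfl⟩ := Finset.mem_filter.1 hf
      obtain ⟨fm, fd⟩ := mem_md.1 hf1
      have gm : g.Monic := hPk.of_mul_monic_left fm
      rw [hPk.natDegree_mul gm, hdeg] at fd
      exact ⟨g, mem_md.2 ⟨gm, by omega⟩, rfl⟩
    · intro g hg
      rw [lam_mul χ ψ hPk (mem_md.1 hg).1, lam_pow χ ψ hP]
  · refine Finset.sum_eq_zero fun f hf => absurd ?_ h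
    obtain ⟨hf1, hdvd⟩ := Finset.mem_filter.1 hf
    obtain ⟨fm, fd⟩ := mem_md.1 hf1
    exact hdeg ▸ fd ▸ natDegree_le_of_dvd hdvd fm.ne_zero

theorem newton (M : ℕ) :
    (M : R) * C' χ ψ M = ∑ P ∈ irr (F := F) M, ∑ k ∈ Icc 1 M,
      if k * P.natDegree ≤ M then (P.natDegree : R) * lam χ ψ P ^ k * C' χ ψ (M - k * P.natDegree) else 0 := by
  classical
  calc (M : R) * C' χ ψ M
      = ∑ f ∈ md M, ∑ P ∈ irr (F := F) M, ∑ k ∈ Icc 1 M,
          if P ^ k ∣ f then (P.natDegree : R) * lam χ ψ f else 0 := by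
        rw [C', Finset.mul_sum]
        refine Finset.sum_congr rfl fun f hf => ?_
        conv_lhs => rw [← natDegree_eq_sum hf]
        simp only [Nat.cast_sum, Finset.sum_mul, Finset.sum_filter, Nat.cast_ite, Nat.cast_zero, ite_mul,
          zero_mul]
    _ = ∑ P ∈ irr (F := F) M, ∑ k ∈ Icc 1 M, ∑ f ∈ md M,
          if P ^ k ∣ f then (P.natDegree : R) * lam χ ψ f else 0 := by
        rw [Finset.sum_comm]
        exact Finset.sum_congr rfl fun P _ => Finset.sum_comm
    _ = _ := Finset.sum_congr rfl fun P hP => Finset.sum_congr rfl fun k _ => by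
        rw [← Finset.sum_filter, ← Finset.mul_sum, sum_dvd χ ψ (mem_irr.1 hP).1, mul_ite, mul_zero, mul_assoc]

theorem S_one : S χ ψ 1 = g χ ψ := by
  have h := newton χ ψ 1
  rw [Nat.cast_one, one_mul, C'_one] at h
  rw [h, ← S_eq χ ψ le_rfl le_rfl]
  refine Finset.sum_congr rfl fun P hP => Finset.sum_congr rfl fun k hk => ?_
  have h1 := (mem_irr.1 hP).2.1.natDegree_pos
  have h2 := (Finset.mem_Icc.1 hk).1
  have := Nat.mul_pos h2 h1
  split_ifs with a b b
  · rw [a, Nat.sub_self, C'_zero, mul_one]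
  · omega
  · omega
  · rfl

theorem S_succ [IsDomain R] (hψ : ψ ≠ 1) {m : ℕ} (hm : 1 ≤ m) : S χ ψ (m + 1) = -(g χ ψ) * S χ ψ m := by
  have h := newton χ ψ (m + 1)
  rw [C'_eq_zero χ ψ hψ (by omega), mul_zero] at h
  have key : (0 : R) = S χ ψ (m + 1) + S χ ψ m * g χ ψ := by
    rw [h, ← S_eq χ ψ (M := m + 1) (by omega) le_rfl, ← S_eq χ ψ (M := m + 1) hm (by omega), Finset.sum_mul,
      ← Finset.sum_add_distrib]
    refine Finset.sum_congr rfl fun P _ => ?_
    rw [Finset.sum_mul, ← Finset.sum_add_distrib]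
    refine Finset.sum_congr rfl fun k _ => ?_
    rcases lt_trichotomy (k * P.natDegree) m with a | a | a
    · rw [if_pos (by omega), if_neg (by omega), if_neg (by omega), C'_eq_zero χ ψ hψ (by omega)]
      simp
    · rw [if_pos (by omega), if_neg (by omega), if_pos a, a, Nat.add_sub_cancel_left, C'_one]
      simp
    · rw [if_neg (by omega : ¬k * P.natDegree = m), zero_mul, add_zero]
      by_cases b : k * P.natDegree = m + 1
      · rw [if_pos (by omega), if_pos b, b, Nat.sub_self, C'_zero, mul_one]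
      · rw [if_neg (by omega), if_neg b]
  linear_combination -key

theorem neg_S [IsDomain R] (hψ : ψ ≠ 1) : ∀ {m : ℕ}, 1 ≤ m → -(S χ ψ m) = (-(g χ ψ)) ^ m
  | 1, _ => by rw [S_one, pow_one]
  | m + 2, _ => by rw [S_succ χ ψ hψ (by omega), pow_succ', ← neg_S hψ (Nat.le_add_left 1 m)]; ring

variable (F' : Type*) [Field F'] [Fintype F'] [Algebra F F']

theorem sum_eq_S : ∑ x : F', χ (Algebra.norm F x) * ψ (Algebra.trace F F' x) = S χ ψ (Module.finrank F F') := by
  classical
  set n := Module.finrank F F'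
  have hn : 0 < n := Module.finrank_pos
  have hint : ∀ x : F', IsIntegral F x := fun x => .of_finite F x
  have hterm : ∀ x : F', χ (Algebra.norm F x) * ψ (Algebra.trace F F' x) =
      lam χ ψ (minpoly F x) ^ (n / (minpoly F x).natDegree) := by
    intro x
    have he : n / (minpoly F x).natDegree = Module.finrank (IntermediateField.adjoin F {x}) F' := by
      rw [show n = Module.finrank F (IntermediateField.adjoin F {x}) * Module.finrank (IntermediateField.adjoin F {x}) F'
        from (Module.finrank_mul_finrank _ _ _).symm, IntermediateField.adjoin.finrank (hint x),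
        Nat.mul_div_cancel_left _ (minpoly.natDegree_pos (hint x))]
    have hN := Algebra.PowerBasis.norm_gen_eq_coeff_zero_minpoly (IntermediateField.adjoin.powerBasis (hint x))
    rw [IntermediateField.adjoin.powerBasis_gen, IntermediateField.minpoly_gen,
      IntermediateField.adjoin.powerBasis_dim] at hN
    rw [he, lam, mul_pow, Algebra.norm_eq_norm_adjoin F x, hN, map_pow,
      trace_eq_finrank_mul_minpoly_nextCoeff, ← nsmul_eq_mul, AddChar.map_nsmul_eq_pow]
  rw [Finset.sum_congr rfl fun x _ => hterm x]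
  rw [← Finset.sum_fiberwise_of_maps_to (g := fun x : F' => minpoly F x)
    (t := (irr (F := F) n).filter (fun P => P.natDegree ∣ n))
    (fun x _ => Finset.mem_filter.2 ⟨mem_irr.2 ⟨minpoly.monic (hint x), minpoly.irreducible (hint x),
      Nat.le_of_dvd hn (minpoly.degree_dvd (hint x))⟩, minpoly.degree_dvd (hint x)⟩), S]
  refine Finset.sum_congr rfl fun P hP => ?_
  obtain ⟨hP1, hdvd⟩ := Finset.mem_filter.1 hP
  obtain ⟨hPm, hPi, -⟩ := mem_irr.1 hP1
  rw [Finset.sum_congr rfl fun x hx => by rw [(Finset.mem_filter.1 hx).2], Finset.sum_const, nsmul_eq_mul]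
  congr 2
  have hset : (Finset.univ.filter fun x : F' => minpoly F x = P) = (P.rootSet F').toFinset := by
    ext x
    simp only [Finset.mem_filter, Finset.mem_univ, true_and, Set.mem_toFinset]
    rw [mem_rootSet_of_ne hPm.ne_zero]
    exact ⟨fun e => e ▸ minpoly.aeval F x, fun e => (minpoly.eq_of_irreducible_of_monic hPi e hPm).symm⟩
  rw [hset, Set.toFinset_card]
  refine card_rootSet_eq_natDegree (PerfectField.separable_of_irreducible hPi) ?_
  have h1 := map_dvd (mapRingHom (algebraMap F F')) (hPi.natDegree_dvd_iff_dvd_X_pow_card_pow_sub_X.1 hdvd)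
  simp only [coe_mapRingHom, Polynomial.map_sub, Polynomial.map_pow, map_X] at h1
  rw [Nat.card_eq_fintype_card, ← Module.card_eq_pow_finrank] at h1
  refine Splits.of_dvd ?_ (FiniteField.X_pow_card_sub_X_ne_zero F' Fintype.one_lt_card) h1
  rw [splits_iff_card_roots, FiniteField.roots_X_pow_card_sub_X,
    FiniteField.X_pow_card_sub_X_natDegree_eq F' Fintype.one_lt_card]
  simp

end Groth.Agent.HDLib
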